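import Cfsg.Agent.H119.Lim.Sys

/-!
# S5242, H2a: the sets `U'`, `N'` and the two short exact sequences (helper119)
-/

set_option autoImplicit false

namespace Cfsg.Agent.H119.Lim

open MulAction Cfsg.Agent.H539.Lim

universe u v w

variable {L : Type u} [Group L]

/-! ### the sets -/

/-- the `p`-subgroups containing `A` -/
def AllP (p : ℕ) (A : Subgroup L) : Set (Subgroup L) := {P | A ≤ P ∧ IsPGroup p P}

/-- `P` contains all `p`-elements `u` with `[u,P] ≤ A` -/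
def CM (p : ℕ) (A : Subgroup L) : Set (Subgroup L) :=
  {P | ∀ u : L, (∀ w ∈ P, kc u w ∈ A) → (∃ k : ℕ, u ^ (p ^ k) = 1) → u ∈ P}

theorem AllP_ordConnected (p : ℕ) (A : Subgroup L) : (AllP p A).OrdConnected :=
  ⟨fun _ h1 _ h2 _ h3 => ⟨h1.1.trans h3.1, h2.2.to_le h3.2⟩⟩

theorem CM_isUpperSet (p : ℕ) (A : Subgroup L) : IsUpperSet (CM p A) :=
  fun _ _ h1 h2 u h3 h4 => h1 (h2 u (fun w hw => h3 w (h1 hw)) h4)

theorem cj_mem {g : L} {P : Subgroup L} {u : L} : u ∈ cj g P ↔ g⁻¹ * u * g ∈ P := by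
  constructor
  · rintro ⟨w, hw, rfl⟩
    simpa [mul_assoc] using hw
  · intro h
    exact ⟨_, h, by simp [mul_assoc]⟩

theorem isPGroup_cj {p : ℕ} (g : L) {P : Subgroup L} (h : IsPGroup p P) : IsPGroup p (cj g P) :=
  h.map _

section
variable {A : Subgroup L} (hA : A ≤ Subgroup.center L)
include hA

theorem le_cj (g : L) {P : Subgroup L} (h : A ≤ P) : A ≤ cj g P := fun a ha => by
  rw [cj_mem, mul_assoc, ← Subgroup.mem_center_iff.1 (hA ha) g, ← mul_assoc, inv_mul_cancel, one_mul]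
  exact h ha

theorem conj_mem_A {g a : L} (h : g⁻¹ * a * g ∈ A) : a ∈ A := by
  have h1 := Subgroup.mem_center_iff.1 (hA h) g
  have h2 : a = g⁻¹ * a * g := by
    calc a = g * (g⁻¹ * a * g) * g⁻¹ := by group
      _ = g⁻¹ * a * g := by rw [h1, mul_assoc, mul_inv_cancel, mul_one]
  rw [h2]
  exact h

theorem conj_mem_A' {g a : L} (h : a ∈ A) : g⁻¹ * a * g ∈ A := by
  rw [mul_assoc, ← Subgroup.mem_center_iff.1 (hA h) g, ← mul_assoc, inv_mul_cancel, one_mul]
  exact h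

theorem AllP_isInv (p : ℕ) : IsInv (AllP p A) := fun g _ h => ⟨le_cj hA g h.1, isPGroup_cj g h.2⟩

theorem CM_isInv (p : ℕ) : IsInv (CM p A) := fun g P h u h1 h2 => by
  rw [cj_mem]
  refine h _ (fun w hw => ?_) ?_
  · rw [kc_conj]
    exact conj_mem_A' hA (h1 _ (cj_mem.2 (by simpa [mul_assoc] using hw)))
  · obtain ⟨k, hk⟩ := h2
    refine ⟨k, ?_⟩
    have := conj_pow (a := g⁻¹) (b := u) (i := p ^ k)
    rw [show g⁻¹ * u * g = g⁻¹ * u * g⁻¹⁻¹ by simp, this, hk]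
    simp

theorem normal_of_le : A.Normal := ⟨fun a ha g => by
  rw [Subgroup.mem_center_iff.1 (hA ha) g, mul_assoc, mul_inv_cancel, mul_one]
  exact ha⟩

/-- `[z,·]` depends only on the class of `z` -/
theorem kc_lift {z z' : L} (h : z⁻¹ * z' ∈ A) (u : L) : kc z' u = kc z u := by
  have e : z' = z * (z⁻¹ * z') := by group
  have h1 : kc (z⁻¹ * z') u = 1 := kc_eq_one.2 (Subgroup.mem_center_iff.1 (hA h) u).symm
  rw [e, kc_mul_left (by rw [h1]; exact Subgroup.one_mem _), h1, mul_one]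

end

/-- the condition in terms of the quotient -/
theorem mem_CM_iff {p : ℕ} {A P : Subgroup L} [A.Normal] (hAp : IsPGroup p A) (hAP : A ≤ P) :
    P ∈ CM p A ↔ Centric p (P.map (QuotientGroup.mk' A)) := by
  have hmem : ∀ u : L, (u : L ⧸ A) ∈ P.map (QuotientGroup.mk' A) ↔ u ∈ P := by
    intro u
    constructor
    · rintro ⟨w, hw, h⟩
      have h1 : w⁻¹ * u ∈ A := QuotientGroup.eq.1 h
      have := P.mul_mem hw (hAP h1)
      simpa using this
    · exact fun h => ⟨u, h, rfl⟩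
  have hcomm : ∀ u w : L, kc u w ∈ A ↔ (u : L ⧸ A) * (w : L ⧸ A) = (w : L ⧸ A) * (u : L ⧸ A) := by
    intro u w
    rw [← QuotientGroup.eq_one_iff]
    show ((u : L ⧸ A) * w * (u : L ⧸ A)⁻¹ * (w : L ⧸ A)⁻¹) = 1 ↔ _
    rw [mul_inv_eq_one, mul_inv_eq_iff_eq_mul]
  constructor
  · intro h v h1 h2
    obtain ⟨u, rfl⟩ := QuotientGroup.mk_surjective v
    obtain ⟨k, hk⟩ := h2
    rw [hmem]
    refine h u (fun w hw => (hcomm u w).2 (h1 _ ⟨w, hw, rfl⟩)) ?_
    rw [← QuotientGroup.mk_pow, QuotientGroup.eq_one_iff] at hk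
    obtain ⟨l, hl⟩ := hAp ⟨_, hk⟩
    refine ⟨k + l, ?_⟩
    rw [pow_add, pow_mul]
    exact congrArg Subtype.val hl
  · intro h u h1 h2
    obtain ⟨k, hk⟩ := h2
    rw [← hmem]
    refine h _ ?_ ⟨k, by rw [← QuotientGroup.mk_pow, hk]; rfl⟩
    rintro _ ⟨w, hw, rfl⟩
    exact (hcomm u w).1 (h1 w hw)

theorem AllP_map {p : ℕ} {A P : Subgroup L} [A.Normal] (hP : P ∈ AllP p A) :
    IsPGroup p (P.map (QuotientGroup.mk' A)) := hP.2.map _

theorem centric_of_CM {p : ℕ} {A P : Subgroup L} (h : P ∈ CM p A) : Centric p P := fun u h1 h2 =>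
  h u (fun w hw => by rw [kc_eq_one.2 (h1 w hw)]; exact A.one_mem) h2

/-! ### the systems `ZG`, `NS`, constant `A` -/

/-- `P ↦ Z(P/A)` (centric `P/A`) -/
noncomputable def ZG (p : ℕ) (A : Subgroup L) [A.Normal] : Coef.{u, u} L :=
  pull (QuotientGroup.mk' A) (Coef.Z p (L ⧸ A))

/-- the classes with a lift centralizing `P` -/
def NSub (p : ℕ) (A : Subgroup L) [A.Normal] (P : Subgroup L) : AddSubgroup ((ZG p A).M P) where
  carrier := {m | ∃ z : L, (z : L ⧸ A) = ((Additive.toMul (α := ↥(zc p (P.map (QuotientGroup.mk' A)))) m :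
    ↥(zc p (P.map (QuotientGroup.mk' A)))) : L ⧸ A) ∧ ∀ u ∈ P, z * u = u * z}
  zero_mem' := ⟨1, rfl, fun u _ => by simp⟩
  add_mem' := by
    rintro a b ⟨z, hz, hz'⟩ ⟨w, hw, hw'⟩
    refine ⟨z * w, ?_, fun u hu => by rw [mul_assoc, hw' u hu, ← mul_assoc, hz' u hu, mul_assoc]⟩
    rw [QuotientGroup.mk_mul, hz, hw]
    rfl
  neg_mem' := by
    rintro a ⟨z, hz, hz'⟩
    refine ⟨z⁻¹, ?_, fun u hu => ?_⟩
    · rw [QuotientGroup.mk_inv, hz]
      rfl
    · have := hz' u hu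
      calc z⁻¹ * u = z⁻¹ * (u * z) * z⁻¹ := by group
        _ = z⁻¹ * (z * u) * z⁻¹ := by rw [this]
        _ = u * z⁻¹ := by group

/-- `P ↦` image of `Z(P)` -/
noncomputable def NS (p : ℕ) (A : Subgroup L) [A.Normal] : Coef.{u, u} L :=
  sub (ZG p A) (NSub p A) (by
    classical
    rintro g P Q h m ⟨z, hz, hz'⟩
    by_cases hP : Centric p (P.map (QuotientGroup.mk' A)) ∧ IsPGroup p (P.map (QuotientGroup.mk' A))
    · refine ⟨g⁻¹ * z * g, ?_, fun u hu => ?_⟩
      · show _ = ((Additive.toMul (Additive.ofMul (if hP : Centric p (P.map (QuotientGroup.mk' A)) ∧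
          IsPGroup p (P.map (QuotientGroup.mk' A)) then _ else 1)) : ↥(zc p (P.map (QuotientGroup.mk' A)))) : L ⧸ A)
        rw [dif_pos hP, QuotientGroup.mk_mul, QuotientGroup.mk_mul, hz]
        rfl
      · have := hz' _ (h u hu)
        calc g⁻¹ * z * g * u = g⁻¹ * (z * (g * u * g⁻¹)) * g := by group
          _ = g⁻¹ * (g * u * g⁻¹ * z) * g := by rw [this]
          _ = u * (g⁻¹ * z * g) := by group
    · refine ⟨1, ?_, fun u _ => by simp⟩
      show _ = ((Additive.toMul (Additive.ofMul (if hP : Centric p (P.map (QuotientGroup.mk' A)) ∧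
        IsPGroup p (P.map (QuotientGroup.mk' A)) then _ else 1)) : ↥(zc p (P.map (QuotientGroup.mk' A)))) : L ⧸ A)
      rw [dif_neg hP]
      rfl)

/-- the inclusion `N → ZG` -/
noncomputable def incN (p : ℕ) (A : Subgroup L) [A.Normal] (V : Set (Subgroup L)) :
    Coef.HomOn (NS p A) (ZG p A) V where
  f P := (NSub p A P).subtype
  nat _ _ _ _ _ _ _ := rfl

theorem incN_injective (p : ℕ) (A : Subgroup L) [A.Normal] (V : Set (Subgroup L)) (P : Subgroup L) :
    Function.Injective ((incN p A V).f P) := Subtype.val_injective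

end Cfsg.Agent.H119.Lim
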