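import Cfsg.Agent.H119.Lim.Ex

/-!
# S5242, H2a: the map `ZG → K` and the exact sequence `0 → N → ZG → K → 0` (helper119)
-/

set_option autoImplicit false

namespace Cfsg.Agent.H119.Lim

open MulAction Cfsg.Agent.H539.Lim

universe u v w

variable {L : Type u} [Group L] {p : ℕ} {A : Subgroup L} [A.Normal]

/-- the element of `L ⧸ A` -/
def toQ {P : Subgroup L} (m : (ZG p A).M P) : L ⧸ A :=
  ((Additive.toMul (α := ↥(zc p (P.map (QuotientGroup.mk' A)))) m :
    ↥(zc p (P.map (QuotientGroup.mk' A)))) : L ⧸ A)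

theorem toQ_inj {P : Subgroup L} {m n : (ZG p A).M P} (h : toQ m = toQ n) : m = n :=
  Additive.toMul.injective (α := ↥(zc p (P.map (QuotientGroup.mk' A)))) (Subtype.ext h)

theorem toQ_add {P : Subgroup L} (m n : (ZG p A).M P) : toQ (m + n) = toQ m * toQ n := rfl

theorem toQ_zero {P : Subgroup L} : toQ (0 : (ZG p A).M P) = 1 := rfl

/-- a lift -/
noncomputable def rep {P : Subgroup L} (m : (ZG p A).M P) : L := Quotient.out (toQ m)

theorem mk_rep {P : Subgroup L} (m : (ZG p A).M P) : ((rep m : L) : L ⧸ A) = toQ m := QuotientGroup.out_eq' _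

theorem kc_mem_of_lift {P : Subgroup L} {m : (ZG p A).M P} {z : L} (hz : (z : L ⧸ A) = toQ m) {u : L}
    (hu : u ∈ P) : kc z u ∈ A := by
  have h1 := (Additive.toMul (α := ↥(zc p (P.map (QuotientGroup.mk' A)))) m).2.2.1 _
    (⟨u, hu, rfl⟩ : (QuotientGroup.mk' A) u ∈ P.map (QuotientGroup.mk' A))
  rw [← QuotientGroup.eq_one_iff]
  show ((z : L ⧸ A) * u * (z : L ⧸ A)⁻¹ * (u : L ⧸ A)⁻¹) = 1
  rw [mul_inv_eq_one, mul_inv_eq_iff_eq_mul, hz]
  exact h1

theorem toQ_tau {g : L} {P Q : Subgroup L} (h : ∀ u ∈ P, g * u * g⁻¹ ∈ Q)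
    (hP : Centric p (P.map (QuotientGroup.mk' A)) ∧ IsPGroup p (P.map (QuotientGroup.mk' A)))
    (m : (ZG p A).M Q) : toQ ((ZG p A).τ g P Q h m) = (g : L ⧸ A)⁻¹ * toQ m * g := by
  classical
  show ((Additive.toMul (Additive.ofMul (if hP : Centric p (P.map (QuotientGroup.mk' A)) ∧
          IsPGroup p (P.map (QuotientGroup.mk' A)) then _ else 1)) : ↥(zc p (P.map (QuotientGroup.mk' A)))) : L ⧸ A) = _
  rw [dif_pos hP]
  rfl

section
variable (hA : A ≤ Subgroup.center L)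

/-- the map `ZG → K` -/
noncomputable def toKf (p : ℕ) (P : Subgroup L) : (ZG p A).M P →+ (KS A).M P where
  toFun m := ⟨fun u => Additive.ofMul ⟨kc (rep m) u, hA (kc_mem_of_lift (mk_rep m) u.2)⟩, rep m,
    fun u hu => kc_mem_of_lift (mk_rep m) hu, fun _ => rfl⟩
  map_zero' := by
    apply Subtype.ext
    funext u
    apply Additive.toMul.injective
    apply Subtype.ext
    show kc (rep (0 : (ZG p A).M P)) u = 1
    rw [← kc_one_left (u : L)]
    refine kc_lift hA ?_ _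
    rw [← QuotientGroup.eq, mk_rep]
    rfl
  map_add' m n := by
    apply Subtype.ext
    funext u
    apply Additive.toMul.injective
    apply Subtype.ext
    show kc (rep (m + n)) u = kc (rep m) u * kc (rep n) u
    rw [← kc_mul_left (hA (kc_mem_of_lift (mk_rep n) u.2))]
    refine kc_lift hA ?_ _
    rw [← QuotientGroup.eq, mk_rep, QuotientGroup.mk_mul, mk_rep, mk_rep]
    rfl

/-- the value at `u` -/
def kval {A P : Subgroup L} (f : (KS A).M P) (u : P) : L := (((f.1 u).toMul : ↥(Subgroup.center L)) : L)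

theorem kval_inj {A P : Subgroup L} {f g : (KS A).M P} (h : ∀ u : P, kval f u = kval g u) : f = g := by
  apply Subtype.ext
  funext u
  exact Additive.toMul.injective (Subtype.ext (h u))

theorem kval_zero {A P : Subgroup L} (u : P) : kval (0 : (KS A).M P) u = 1 := rfl

theorem kval_add {A P : Subgroup L} (f g : (KS A).M P) (u : P) : kval (f + g) u = kval f u * kval g u := rfl

theorem kval_tau {A P Q : Subgroup L} {g : L} (h : ∀ u ∈ P, g * u * g⁻¹ ∈ Q) (f : (KS A).M Q) (u : P) :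
    kval ((KS A).τ g P Q h f) u = kval f ⟨g * u * g⁻¹, h u u.2⟩ := rfl

theorem exists_kc {A P : Subgroup L} (f : (KS A).M P) :
    ∃ c : L, (∀ u ∈ P, kc c u ∈ A) ∧ ∀ u : P, kval f u = kc c u := f.2

theorem kval_toKf {P : Subgroup L} (m : (ZG p A).M P) {z : L} (hz : (z : L ⧸ A) = toQ m) (u : P) :
    kval (toKf hA p P m) u = kc z u := by
  show kc (rep m) u = kc z u
  refine kc_lift hA ?_ _
  rw [← QuotientGroup.eq, mk_rep, hz]

theorem centricQ {P : Subgroup L} (hAp : IsPGroup p A) (hP : P ∈ AllP p A ∩ CM p A) :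
    Centric p (P.map (QuotientGroup.mk' A)) ∧ IsPGroup p (P.map (QuotientGroup.mk' A)) :=
  ⟨(mem_CM_iff hAp hP.1.1).1 hP.2, AllP_map hP.1⟩

/-- the homomorphism `ZG → K` -/
noncomputable def toK (hAp : IsPGroup p A) : Coef.HomOn (ZG p A) (KS A) (AllP p A ∩ CM p A) where
  f P := toKf hA p P
  nat g P Q h hP hQ m := by
    apply kval_inj
    intro u
    have h1 : ((g⁻¹ * rep m * g : L) : L ⧸ A) = toQ ((ZG p A).τ g P Q h m) := by
      rw [toQ_tau h (centricQ hAp hP), QuotientGroup.mk_mul, QuotientGroup.mk_mul, mk_rep]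
      rfl
    rw [kval_toKf hA _ h1, kval_tau, kval_toKf hA _ (mk_rep m), kc_conj]
    have h2 : kc (rep m) (g * u * g⁻¹) ∈ Subgroup.center L := hA (kc_mem_of_lift (mk_rep m) (h u u.2))
    rw [Subgroup.mem_center_iff.1 h2 g⁻¹, mul_assoc, inv_mul_cancel, mul_one]

theorem toK_exact (hAp : IsPGroup p A) (P : Subgroup L) (m : (ZG p A).M P) :
    (toK hA hAp).f P m = 0 ↔ ∃ m' : (NS p A).M P, (incN p A (AllP p A ∩ CM p A)).f P m' = m := by
  constructor
  · intro h
    refine ⟨⟨m, rep m, mk_rep m, fun u hu => ?_⟩, rfl⟩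
    have h1 : kval (toKf hA p P m) ⟨u, hu⟩ = 1 := by
      have : toKf hA p P m = 0 := h
      rw [this]
      rfl
    rw [kval_toKf hA _ (mk_rep m)] at h1
    exact kc_eq_one.1 h1
  · rintro ⟨⟨m', z, hz, hz'⟩, rfl⟩
    apply kval_inj
    intro u
    show kval (toKf hA p P m') u = 1
    rw [kval_toKf hA m' hz]
    exact kc_eq_one.2 (hz' u u.2)

theorem toK_surjective [Fact p.Prime] [Finite L] (hAp : IsPGroup p A) {P : Subgroup L}
    (hP : P ∈ AllP p A ∩ CM p A) : Function.Surjective ((toK hA hAp).f P) := by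
  intro f
  obtain ⟨c, hc, hf⟩ := exists_kc f
  obtain ⟨b, hb⟩ := IsPGroup.iff_card.1 hAp
  have hp := Fact.out (p := p.Prime)
  obtain ⟨a, m, hm, ho⟩ := Nat.exists_eq_pow_mul_and_not_dvd (orderOf_pos c).ne' p hp.ne_one
  have hco : Nat.Coprime m (p ^ b) := Nat.Coprime.pow_right _ ((Nat.Prime.coprime_iff_not_dvd hp).2 hm).symm
  obtain ⟨k, hk0, hk1⟩ := Nat.chineseRemainder hco 0 1
  have hk2 : m ∣ k := (Nat.modEq_zero_iff_dvd).1 hk0
  have hkc : ∀ j : ℕ, ∀ u ∈ P, kc (c ^ j) u = (kc c u) ^ j := by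
    intro j u hu
    induction j with
    | zero => rw [pow_zero, pow_zero, kc_one_left]
    | succ j ih => rw [pow_succ, kc_mul_left (hA (hc u hu)), ih, pow_succ]
  have hck : ∀ u ∈ P, kc (c ^ k) u = kc c u := by
    intro u hu
    rw [hkc k u hu]
    have h1 : (kc c u) ^ (p ^ b) = 1 := by
      have := pow_card_eq_one' (x := (⟨kc c u, hc u hu⟩ : A))
      rw [hb] at this
      exact congrArg Subtype.val this
    have h2 : orderOf (kc c u) ∣ p ^ b := orderOf_dvd_of_pow_eq_one h1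
    have h3 : k ≡ 1 [MOD orderOf (kc c u)] := hk1.of_dvd h2
    rw [← pow_one (kc c u)] at h1 ⊢
    rw [← pow_mul, one_mul]
    exact pow_eq_pow_iff_modEq.2 h3
  have hcP : c ^ k ∈ P := by
    refine hP.2 _ (fun u hu => by rw [hck u hu]; exact hc u hu) ⟨a, ?_⟩
    rw [← pow_mul]
    apply orderOf_dvd_iff_pow_eq_one.1
    rw [ho, mul_comm]
    exact Nat.mul_dvd_mul hk2 (dvd_refl _)
  have hcm : ((c ^ k : L) : L ⧸ A) ∈ zc p (P.map (QuotientGroup.mk' A)) := by
    refine ⟨⟨_, hcP, rfl⟩, ?_, Or.inr (centricQ hAp hP)⟩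
    rintro _ ⟨w, hw, rfl⟩
    have h1 : kc (c ^ k) w ∈ A := by rw [hck w hw]; exact hc w hw
    rw [← QuotientGroup.eq_one_iff] at h1
    have h2 : (((c ^ k : L) : L ⧸ A) * w * ((c ^ k : L) : L ⧸ A)⁻¹ * (w : L ⧸ A)⁻¹) = 1 := h1
    rw [mul_inv_eq_one, mul_inv_eq_iff_eq_mul] at h2
    exact h2
  refine ⟨Additive.ofMul (⟨_, hcm⟩ : ↥(zc p (P.map (QuotientGroup.mk' A)))), ?_⟩
  apply kval_inj
  intro u
  rw [hf u, ← hck u u.2]
  exact kval_toKf hA (p := p) (A := A) (P := P) _ rfl u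

end

end Cfsg.Agent.H119.Lim
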