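import Cfsg.Agent.H119.Lim.Ex2

/-!
# S5242, H2a: the exact sequence `0 → A → ZL → N → 0` (helper119)
-/

set_option autoImplicit false

namespace Cfsg.Agent.H119.Lim

open MulAction Cfsg.Agent.H539.Lim

universe u v w

variable {L : Type u} [Group L] {p : ℕ}

/-- `A` as an additive group -/
def DA (A : Subgroup L) (_ : A ≤ Subgroup.center L) : Type u := Additive ↥A

section
variable {A : Subgroup L} (hA : A ≤ Subgroup.center L)

/-- `A` is commutative -/
abbrev commA : CommGroup ↥A :=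
  { (inferInstance : Group ↥A) with
    mul_comm := fun a b => Subtype.ext (Subgroup.mem_center_iff.1 (hA b.2) a) }

noncomputable instance instDA : AddCommGroup (DA A hA) := @Additive.addCommGroup ↥A (commA hA)

/-- the element of `L` -/
def aval (a : DA A hA) : L := ((Additive.toMul (α := ↥A) a : ↥A) : L)

theorem aval_add (a b : DA A hA) : aval hA (a + b) = aval hA a * aval hA b := rfl
theorem aval_zero : aval hA (0 : DA A hA) = 1 := rfl
theorem aval_mem (a : DA A hA) : aval hA a ∈ A := (Additive.toMul (α := ↥A) a).2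
theorem aval_inj {a b : DA A hA} (h : aval hA a = aval hA b) : a = b :=
  Additive.toMul.injective (α := ↥A) (Subtype.ext h)

/-- the element of `L` -/
def zval {P : Subgroup L} (m : (Coef.Z p L).M P) : L :=
  ((Additive.toMul (α := ↥(zc p P)) m : ↥(zc p P)) : L)

theorem zval_inj {P : Subgroup L} {m n : (Coef.Z p L).M P} (h : zval m = zval n) : m = n :=
  Additive.toMul.injective (α := ↥(zc p P)) (Subtype.ext h)

theorem zval_mem {P : Subgroup L} (m : (Coef.Z p L).M P) : zval m ∈ zc p P :=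
  (Additive.toMul (α := ↥(zc p P)) m).2

theorem zval_add {P : Subgroup L} (m n : (Coef.Z p L).M P) : zval (m + n) = zval m * zval n := rfl
theorem zval_zero {P : Subgroup L} : zval (0 : (Coef.Z p L).M P) = 1 := rfl

theorem zval_tau {g : L} {P Q : Subgroup L} (h : ∀ u ∈ P, g * u * g⁻¹ ∈ Q) (hP : Centric p P ∧ IsPGroup p P)
    (m : (Coef.Z p L).M Q) : zval ((Coef.Z p L).τ g P Q h m) = g⁻¹ * zval m * g := by
  classical
  show ((Additive.toMul (Additive.ofMul (if hP : Centric p P ∧ IsPGroup p P then _ else 1)) : ↥(zc p P)) : L) = _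
  rw [dif_pos hP]
  rfl

theorem centricL {P : Subgroup L} (hP : P ∈ AllP p A ∩ CM p A) : Centric p P ∧ IsPGroup p P :=
  ⟨centric_of_CM hP.2, hP.1.2⟩

open Classical in
/-- the inclusion of the constant system -/
noncomputable def AtoZ (p : ℕ) : Coef.HomOn (const L (DA A hA)) (Coef.Z p L) (AllP p A ∩ CM p A) where
  f P :=
    { toFun := fun a => Additive.ofMul (α := ↥(zc p P)) (if hP : P ∈ AllP p A ∩ CM p A then
        ⟨aval hA a, hP.1.1 (aval_mem hA a), fun u _ => (Subgroup.mem_center_iff.1 (hA (aval_mem hA a)) u).symm,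
          Or.inr (centricL hP)⟩ else 1)
      map_zero' := by
        by_cases hP : P ∈ AllP p A ∩ CM p A
        · rw [dif_pos hP]
          rfl
        · rw [dif_neg hP]
          rfl
      map_add' := fun a b => by
        by_cases hP : P ∈ AllP p A ∩ CM p A
        · rw [dif_pos hP, dif_pos hP, dif_pos hP]
          rfl
        · rw [dif_neg hP, dif_neg hP, dif_neg hP]
          show (Additive.ofMul (1 : ↥(zc p P))) = Additive.ofMul ((1 : ↥(zc p P)) * 1)
          rw [mul_one] }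
  nat g P Q h hP hQ a := by
    apply zval_inj
    rw [zval_tau h (centricL hP)]
    show ((if hP : P ∈ AllP p A ∩ CM p A then (⟨aval hA a, _⟩ : ↥(zc p P)) else 1 : ↥(zc p P)) : L) =
      g⁻¹ * ((if hQ : Q ∈ AllP p A ∩ CM p A then (⟨aval hA a, _⟩ : ↥(zc p Q)) else 1 : ↥(zc p Q)) : L) * g
    rw [dif_pos hP, dif_pos hQ]
    show aval hA a = g⁻¹ * aval hA a * g
    rw [Subgroup.mem_center_iff.1 (hA (aval_mem hA a)) g⁻¹, mul_assoc, inv_mul_cancel, mul_one]

theorem zval_AtoZ {P : Subgroup L} (hP : P ∈ AllP p A ∩ CM p A) (a : DA A hA) :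
    zval ((AtoZ hA p).f P a) = aval hA a := by
  classical
  show ((if hP : P ∈ AllP p A ∩ CM p A then (⟨aval hA a, _⟩ : ↥(zc p P)) else 1 : ↥(zc p P)) : L) = _
  rw [dif_pos hP]

theorem AtoZ_injective {P : Subgroup L} (hP : P ∈ AllP p A ∩ CM p A) :
    Function.Injective ((AtoZ hA p).f P) := by
  intro a b h
  apply aval_inj
  rw [← zval_AtoZ hA hP a, ← zval_AtoZ hA hP b, h]

variable [A.Normal]

/-- the element of `L ⧸ A` -/
def nval {P : Subgroup L} (m : (NS p A).M P) : L ⧸ A := toQ (p := p) (m.1 : (ZG p A).M P)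

theorem nval_inj {P : Subgroup L} {m n : (NS p A).M P} (h : nval m = nval n) : m = n :=
  Subtype.ext (toQ_inj h)

/-- the map `Z(P) → Z(P)/A` on `U'` -/
def ZtoN0 (hAp : IsPGroup p A) {P : Subgroup L} (hP : P ∈ AllP p A ∩ CM p A) (m : (Coef.Z p L).M P) :
    (NS p A).M P :=
  ⟨Additive.ofMul (α := ↥(zc p (P.map (QuotientGroup.mk' A)))) ⟨((zval m : L) : L ⧸ A),
    ⟨⟨zval m, (zval_mem m).1, rfl⟩, by
      rintro _ ⟨w, hw, rfl⟩
      have := (zval_mem m).2.1 w hw
      exact congrArg (QuotientGroup.mk' A) this, Or.inr (centricQ hAp hP)⟩⟩, zval m, rfl, (zval_mem m).2.1⟩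

theorem nval_ZtoN0 (hAp : IsPGroup p A) {P : Subgroup L} (hP : P ∈ AllP p A ∩ CM p A) (m : (Coef.Z p L).M P) :
    nval (ZtoN0 hAp hP m) = ((zval m : L) : L ⧸ A) := rfl

open Classical in
/-- the map `Z(P) → Z(P)/A` -/
noncomputable def ZtoNf (hAp : IsPGroup p A) (P : Subgroup L) : (Coef.Z p L).M P →+ (NS p A).M P where
  toFun := fun m => if hP : P ∈ AllP p A ∩ CM p A then ZtoN0 hAp hP m else 0
  map_zero' := by
    by_cases hP : P ∈ AllP p A ∩ CM p A
    · rw [dif_pos hP]
      exact nval_inj rfl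
    · rw [dif_neg hP]
  map_add' := fun a b => by
    by_cases hP : P ∈ AllP p A ∩ CM p A
    · rw [dif_pos hP, dif_pos hP, dif_pos hP]
      exact nval_inj rfl
    · rw [dif_neg hP, dif_neg hP, dif_neg hP, add_zero]

theorem nval_ZtoNf (hAp : IsPGroup p A) {P : Subgroup L} (hP : P ∈ AllP p A ∩ CM p A) (m : (Coef.Z p L).M P) :
    nval (ZtoNf hAp P m) = ((zval m : L) : L ⧸ A) := by
  classical
  have : ZtoNf hAp P m = ZtoN0 hAp hP m := dif_pos hP
  rw [this]
  rfl

theorem nval_tau {g : L} {P Q : Subgroup L} (h : ∀ u ∈ P, g * u * g⁻¹ ∈ Q)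
    (hP : Centric p (P.map (QuotientGroup.mk' A)) ∧ IsPGroup p (P.map (QuotientGroup.mk' A)))
    (m : (NS p A).M Q) : nval ((NS p A).τ g P Q h m) = (g : L ⧸ A)⁻¹ * nval m * g := toQ_tau h hP m.1

/-- the homomorphism `Z → N` -/
noncomputable def ZtoN (hAp : IsPGroup p A) : Coef.HomOn (Coef.Z p L) (NS p A) (AllP p A ∩ CM p A) where
  f P := ZtoNf hAp P
  nat g P Q h hP hQ m := by
    apply nval_inj
    rw [nval_ZtoNf hAp hP, nval_tau h (centricQ hAp hP), nval_ZtoNf hAp hQ, zval_tau h (centricL hP)]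
    rfl

theorem ZtoN_exact (hAp : IsPGroup p A) {P : Subgroup L} (hP : P ∈ AllP p A ∩ CM p A) (m : (Coef.Z p L).M P) :
    (ZtoN hAp).f P m = 0 ↔ ∃ a : DA A hA, (AtoZ hA p).f P a = m := by
  constructor
  · intro h
    have h1 : nval (ZtoNf hAp P m) = 1 := by
      have : ZtoNf hAp P m = 0 := h
      rw [this]
      rfl
    rw [nval_ZtoNf hAp hP, QuotientGroup.eq_one_iff] at h1
    refine ⟨(Additive.ofMul (α := ↥A) ⟨zval m, h1⟩ : DA A hA), ?_⟩
    apply zval_inj
    exact zval_AtoZ hA hP _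
  · rintro ⟨a, rfl⟩
    apply nval_inj
    show nval (ZtoNf hAp P _) = 1
    rw [nval_ZtoNf hAp hP, zval_AtoZ hA hP, QuotientGroup.eq_one_iff]
    exact aval_mem hA a

theorem ZtoN_surjective (hAp : IsPGroup p A) {P : Subgroup L} (hP : P ∈ AllP p A ∩ CM p A) :
    Function.Surjective ((ZtoN hAp).f P) := by
  rintro ⟨m, z, hz, hz'⟩
  have h1 : z ∈ P := by
    obtain ⟨w, hw, h⟩ := (Additive.toMul (α := ↥(zc p (P.map (QuotientGroup.mk' A)))) m).2.1
    rw [← hz] at h
    have h2 : w⁻¹ * z ∈ A := QuotientGroup.eq.1 h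
    have := P.mul_mem hw (hP.1.1 h2)
    simpa using this
  refine ⟨Additive.ofMul (α := ↥(zc p P)) ⟨z, h1, hz', Or.inr (centricL hP)⟩, ?_⟩
  apply nval_inj
  exact (nval_ZtoNf hAp hP _).trans hz

end

end Cfsg.Agent.H119.Lim
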