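import Cfsg.Agent.H539.Lim.DefsZ
import Cfsg.Agent.H486.Lim.Disjoint
import Cfsg.Agent.H234.Lim.Comp
import Cfsg.Agent.H95.Lim.Local

/-!
# S5242, H2a: vanishing on a single subgroup `P` (helper119)
-/

set_option autoImplicit false

namespace Cfsg.Agent.H119.Lim

open MulAction Cfsg.Agent.H539.Lim

universe u v w

variable {G : Type u} [Group G]

theorem tau_eq (C : Coef.{u, w} G) {g g' : G} (hg : g = g') {P Q : Subgroup G} (h : ∀ u ∈ P, g * u * g⁻¹ ∈ Q)
    (h' : ∀ u ∈ P, g' * u * g'⁻¹ ∈ Q) (m : C.M Q) : C.τ g P Q h m = C.τ g' P Q h' m := by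
  subst hg
  rfl

theorem tau_one (C : Coef.{u, w} G) {P : Subgroup G} (h : ∀ u ∈ P, (1 : G) * u * 1⁻¹ ∈ P) (m : C.M P) :
    C.τ 1 P P h m = m := C.τ_inner P 1 P.one_mem h m

theorem nz_conj {P : Subgroup G} (n : ↥(Nz P)) : ∀ u ∈ P, (n : G) * u * (n : G)⁻¹ ∈ P := fun u hu =>
  (Subgroup.mem_normalizer_iff.mp n.2 u).mp hu

/-- `M(P)` as a module of the normalizer of `P` -/
def MMod (C : Coef.{u, w} G) (P : Subgroup G) : Type w := C.M P

instance instAcgMMod (C : Coef.{u, w} G) (P : Subgroup G) : AddCommGroup (MMod C P) :=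
  inferInstanceAs (AddCommGroup (C.M P))

instance instActMMod (C : Coef.{u, w} G) (P : Subgroup G) : DistribMulAction ↥(Nz P) (MMod C P) where
  smul n m := C.τ ((n⁻¹ : ↥(Nz P)) : G) P P (nz_conj n⁻¹) m
  one_smul m := (tau_eq C (by simp) _ (fun u hu => by simpa using hu) m).trans (tau_one C _ m)
  mul_smul a b m := by
    refine Eq.trans ?_ (C.τ_comp ((a⁻¹ : ↥(Nz P)) : G) ((b⁻¹ : ↥(Nz P)) : G) P P P (nz_conj a⁻¹) (nz_conj b⁻¹)
      (nz_conj (b⁻¹ * a⁻¹)) m).symm
    exact tau_eq C (by simp) _ _ m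
  smul_zero n := map_zero _
  smul_add n a b := map_add _ _ _

theorem MMod.smul_def (C : Coef.{u, w} G) (P : Subgroup G) (n : ↥(Nz P)) (m : MMod C P) :
    n • m = C.τ ((n⁻¹ : ↥(Nz P)) : G) P P (nz_conj n⁻¹) m := rfl

/-- `M(Q) ≃ M(P)` for `Q = P` -/
def eqEquiv (C : Coef.{u, w} G) {P Q : Subgroup G} (h : Q = P) : C.M Q ≃+ C.M P where
  toFun := C.τ 1 P Q (fun u hu => by rw [h]; simpa using hu)
  invFun := C.τ 1 Q P (fun u hu => by rw [← h]; simpa using hu)
  left_inv m := (C.τ_comp 1 1 Q P Q _ _ (fun u hu => by simpa using hu) m).trans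
    ((tau_eq C (by simp) _ (fun u hu => by simpa using hu) m).trans (tau_one C _ m))
  right_inv m := (C.τ_comp 1 1 P Q P _ _ (fun u hu => by simpa using hu) m).trans
    ((tau_eq C (by simp) _ (fun u hu => by simpa using hu) m).trans (tau_one C _ m))
  map_add' := map_add _

instance normal_subgroupOf_nz (P : Subgroup G) : (P.subgroupOf (Nz P)).Normal := ⟨fun u hu n => by
  rw [Subgroup.mem_subgroupOf] at hu ⊢
  exact nz_conj n _ hu⟩

theorem map_subgroupOf_nz (P : Subgroup G) : (P.subgroupOf (Nz P)).map (Nz P).subtype = P := by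
  rw [Subgroup.subgroupOf_map_subtype, inf_eq_left]
  exact Subgroup.le_normalizer

theorem eq_subgroupOf_nz {P : Subgroup G} {Q : Subgroup ↥(Nz P)} (h : Q.map (Nz P).subtype = P) :
    Q = P.subgroupOf (Nz P) :=
  Subgroup.map_injective (Nz P).subtype_injective (h.trans (map_subgroupOf_nz P).symm)

/-- `P` acts trivially on `M(P)` -/
theorem smul_of_mem (C : Coef.{u, w} G) {P : Subgroup G} {n : ↥(Nz P)} (hn : (n : G) ∈ P) (m : MMod C P) :
    n • m = m := C.τ_inner P _ (by simpa using hn) _ m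

/-- vanishing of `H^n({P}; M)` if a normal subgroup `W` of the normalizer of `P` acts trivially on `M(P)` and contains
a `p`-element outside of `P` -/
theorem van_single (C : Coef.{u, w} G) {p : ℕ} [Fact p.Prime] [Finite G] {Ω : Type v} [MulAction G Ω] [Finite Ω]
    (hΩ : PSet p G Ω) {P : Subgroup G} (hP : IsPGroup p P) [Finite (C.M P)] (hD : IsPTors p (C.M P))
    (W : Subgroup ↥(Nz P)) [W.Normal] (hW : ∀ n ∈ W, ∀ m : C.M P, C.τ (n : G) P P (nz_conj n) m = m)
    (hu : ∃ u ∈ W, (∃ k : ℕ, u ^ (p ^ k) = 1) ∧ (u : G) ∉ P) {V : Set (Subgroup ↥(Nz P))}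
    (hV : ∀ Q ∈ V, Q.map (Nz P).subtype = P) (n : ℕ) :
    (C.restr (Nz P)).Van (FixPt P Ω) V n := by
  classical
  have hVY : ∀ Q ∈ V, Q = P.subgroupOf (Nz P) := fun Q hQ => eq_subgroupOf_nz (hV Q hQ)
  have hVc : V.OrdConnected := ⟨fun P1 h1 P2 h2 P3 h3 => by
    rw [hVY P1 h1, hVY P2 h2] at h3
    rw [le_antisymm h3.2 h3.1, ← hVY P1 h1]
    exact h1⟩
  have hVi : IsInv V := fun g Q hQ => by
    have h1 : cj g Q = Q := by
      rw [hVY Q hQ]
      apply le_antisymm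
      · rintro _ ⟨w, hw, rfl⟩
        exact (normal_subgroupOf_nz P).conj_mem w hw g
      · intro w hw
        refine ⟨g⁻¹ * w * g, ?_, by simp [mul_assoc]⟩
        have := (normal_subgroupOf_nz P).conj_mem w hw g⁻¹
        simpa using this
    rw [h1]
    exact hQ
  have hmem : ∀ n : ↥(Nz P), n ∈ P.subgroupOf (Nz P) ↔ (n : G) ∈ P := fun n => Subgroup.mem_subgroupOf
  have : Finite (MMod C P) := inferInstanceAs (Finite (C.M P))
  have hD' : IsPTors p (MMod C P) := hD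
  refine H234.Lim.Coef.van_of_mod (D := MMod C P) (C.restr (Nz P)) hVc hVi
    (fun Q hQ => (eqEquiv C (hV Q hQ)).trans
      { toFun := fun m => (⟨m, fun u hu => smul_of_mem C ((hmem u).1 (by rw [← hVY Q hQ]; exact hu)) m⟩ :
          ↥(DFix Q (MMod C P)))
        invFun := fun d => d.1
        left_inv := fun _ => rfl
        right_inv := fun _ => rfl
        map_add' := fun _ _ => rfl }) ?_ ?_
  · intro g Q R h hQ hR m
    show C.τ 1 P (Q.map (Nz P).subtype) _ (C.τ (g : G) (Q.map (Nz P).subtype) (R.map (Nz P).subtype) _ m) =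
      C.τ ((g⁻¹⁻¹ : ↥(Nz P)) : G) P P (nz_conj g⁻¹⁻¹) (C.τ 1 P (R.map (Nz P).subtype) _ m)
    have e1 := C.τ_comp 1 (g : G) P (Q.map (Nz P).subtype) (R.map (Nz P).subtype)
      (fun u hu => by rw [hV Q hQ]; simpa using hu) (by
        rintro u ⟨w, hw, rfl⟩
        exact ⟨g * w * g⁻¹, h w hw, rfl⟩) (fun u hu => by
        rw [hV R hR, mul_one]
        exact nz_conj g u hu) m
    have e2 := C.τ_comp ((g⁻¹⁻¹ : ↥(Nz P)) : G) 1 P P (R.map (Nz P).subtype) (nz_conj g⁻¹⁻¹)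
      (fun u hu => by rw [hV R hR]; simpa using hu) (fun u hu => by
        rw [hV R hR, one_mul]
        exact nz_conj _ u hu) m
    exact e1.trans ((tau_eq C (by simp) _ _ m).trans e2.symm)
  · refine H486.Lim.van_disjoint (D := MMod C P) (H95.Lim.pset_fixPt hΩ P hP) hD' (P.subgroupOf (Nz P)) W ?_ ?_ ?_ hVc hVi ?_ n
    · rintro x n hn
      rw [mem_stabilizer_iff]
      exact Subtype.ext (x.2 ((hmem n).1 hn))
    · intro c hc d
      exact hW _ (W.inv_mem hc) d
    · obtain ⟨u, hu, hk, huP⟩ := hu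
      exact ⟨u, hu, hk, fun h => huP ((hmem u).1 h)⟩
    · intro Q hQ
      rw [hVY Q hQ]
      exact inf_le_left

end Cfsg.Agent.H119.Lim
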