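import Cfsg.Agent.H539.Lim.DefsZ

/-!
# S5242, H2a: coefficient systems over a central extension `L` of `L ⧸ A` (helper119)

* `pull φ C` : pull back along a homomorphism; `sub C S hS` : subsystem; `const G D` : constant system;
* `KS A` : `P ↦ {u ↦ c u c⁻¹ u⁻¹ | c ∈ L, [c,P] ≤ A}`;
* `ZG p A` : `P ↦ Z(P A / A)` (centric `P A / A`); `NS p A` : the image of `Z(P)`;
* `UU p A` : `A ≤ P`, `P` a `p`-group, `P/A` centric; `NN p A` : `A ≤ P`, `P` a `p`-group, `∃ p`-element `u ∉ P`, `[u,P] ≤ A`;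
* `toK`, `incN`, `ZtoN`, `AtoZ` : the homomorphisms; exactness lemmas.
-/

set_option autoImplicit false

namespace Cfsg.Agent.H119.Lim

open MulAction Cfsg.Agent.H539.Lim

universe u v w

/-! ### general constructions -/

section gen

variable {G : Type u} [Group G]

/-- pull back along a homomorphism -/
def pull {H : Type u} [Group H] (φ : G →* H) (C : Coef.{u, v} H) : Coef.{u, v} G where
  M P := C.M (P.map φ)
  acg _ := C.acg _
  τ g P Q h := C.τ (φ g) (P.map φ) (Q.map φ) (by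
    rintro _ ⟨w, hw, rfl⟩
    exact ⟨g * w * g⁻¹, h w hw, by simp⟩)
  τ_comp g h P Q R h1 h2 h3 m := by
    have h4 : ∀ u ∈ P.map φ, (φ h * φ g) * u * (φ h * φ g)⁻¹ ∈ R.map φ := by
      rintro _ ⟨w, hw, rfl⟩
      exact ⟨h * g * w * (h * g)⁻¹, h3 w hw, by simp⟩
    refine (C.τ_comp (φ g) (φ h) _ _ _ _ _ h4 m).trans ?_
    congr 1
    simp only [map_mul]
  τ_inner P u hu h m := C.τ_inner (P.map φ) (φ u) ⟨u, hu, rfl⟩ _ m

/-- subsystem -/
def sub (C : Coef.{u, v} G) (S : ∀ P, AddSubgroup (C.M P))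
    (hS : ∀ (g : G) (P Q : Subgroup G) (h : ∀ u ∈ P, g * u * g⁻¹ ∈ Q), ∀ m ∈ S Q, C.τ g P Q h m ∈ S P) :
    Coef.{u, v} G where
  M P := ↥(S P)
  acg _ := inferInstance
  τ g P Q h := ((C.τ g P Q h).comp (S Q).subtype).codRestrict (S P) (fun m => hS g P Q h m m.2)
  τ_comp g h P Q R h1 h2 h3 m := Subtype.ext (C.τ_comp g h P Q R h1 h2 h3 m)
  τ_inner P u hu h m := Subtype.ext (C.τ_inner P u hu h m)

/-- constant system -/
def const (G : Type u) [Group G] (D : Type v) [AddCommGroup D] : Coef.{u, v} G where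
  M _ := D
  acg _ := inferInstance
  τ _ _ _ _ := AddMonoidHom.id D
  τ_comp _ _ _ _ _ _ _ _ _ := rfl
  τ_inner _ _ _ _ _ := rfl

end gen

/-! ### the commutator maps -/

section L

variable {L : Type u} [Group L]

/-- `[c, u]` -/
def kc (c u : L) : L := c * u * c⁻¹ * u⁻¹

theorem kc_mul_left {c d u : L} (h : kc d u ∈ Subgroup.center L) : kc (c * d) u = kc c u * kc d u := by
  have h1 := Subgroup.mem_center_iff.1 h
  have e1 : kc (c * d) u = c * kc d u * (u * c⁻¹ * u⁻¹) := by unfold kc; group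
  rw [e1, h1 c, mul_assoc, ← h1]
  unfold kc; group

theorem kc_mul_right {c u w : L} (h : kc c w ∈ Subgroup.center L) : kc c (u * w) = kc c u * kc c w := by
  have h1 := Subgroup.mem_center_iff.1 h
  have e1 : kc c (u * w) = c * u * c⁻¹ * kc c w * u⁻¹ := by unfold kc; group
  rw [e1, mul_assoc _ (kc c w), ← h1 u⁻¹, ← mul_assoc]
  unfold kc; group

theorem kc_conj (g c u : L) : kc (g⁻¹ * c * g) u = g⁻¹ * kc c (g * u * g⁻¹) * g := by
  unfold kc; group

theorem kc_eq_one {c u : L} : kc c u = 1 ↔ c * u = u * c := by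
  unfold kc
  rw [mul_inv_eq_one, mul_inv_eq_iff_eq_mul]

theorem kc_one_left (u : L) : kc 1 u = 1 := by unfold kc; group

theorem cadd_comm (a b : Additive ↥(Subgroup.center L)) : a + b = b + a :=
  Additive.toMul.injective (Subtype.ext (Subgroup.mem_center_iff.1 (Additive.toMul b).2 _))

/-- `K(P)` : the homomorphisms `[c,·]` -/
def KP (A P : Subgroup L) : AddSubgroup (↥P → Additive ↥(Subgroup.center L)) where
  carrier := {f | ∃ c : L, (∀ u ∈ P, kc c u ∈ A) ∧ ∀ u : P, (((f u).toMul : ↥(Subgroup.center L)) : L) = kc c u}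
  zero_mem' := ⟨1, fun u _ => by rw [kc_one_left]; exact A.one_mem, fun u => by rw [kc_one_left]; rfl⟩
  add_mem' := by
    rintro f g ⟨c, hc, hf⟩ ⟨d, hd, hg⟩
    have h1 : ∀ u : P, kc (c * d) u = kc c u * kc d u := fun u =>
      kc_mul_left (by rw [← hg u]; exact (g u).toMul.2)
    refine ⟨c * d, fun u hu => ?_, fun u => ?_⟩
    · rw [h1 ⟨u, hu⟩]
      exact A.mul_mem (hc u hu) (hd u hu)
    · rw [h1 u, ← hf u, ← hg u]
      rfl
  neg_mem' := by
    rintro f ⟨c, hc, hf⟩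
    have h1 : ∀ u : P, kc c⁻¹ u = (kc c u)⁻¹ := fun u => by
      have h2 : kc c u ∈ Subgroup.center L := by rw [← hf u]; exact (f u).toMul.2
      have h3 : kc (c⁻¹ * c) u = kc c⁻¹ u * kc c u := kc_mul_left h2
      rw [inv_mul_cancel, kc_one_left] at h3
      exact eq_inv_of_mul_eq_one_left h3.symm
    refine ⟨c⁻¹, fun u hu => ?_, fun u => ?_⟩
    · rw [h1 ⟨u, hu⟩]
      exact A.inv_mem (hc u hu)
    · rw [h1 u, ← hf u]
      rfl

theorem KP_mul {A P : Subgroup L} {f : ↥P → Additive ↥(Subgroup.center L)} (hf : f ∈ KP A P) (u w : P) :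
    f (u * w) = f u + f w := by
  obtain ⟨c, -, hf⟩ := hf
  apply Additive.toMul.injective
  apply Subtype.ext
  rw [hf, Subgroup.coe_mul, kc_mul_right (by rw [← hf w]; exact (f w).toMul.2), ← hf u, ← hf w]
  rfl

/-- the values at elements of `A ⊓ Z(L)` vanish -/
theorem KP_central {A P : Subgroup L} {f : ↥P → Additive ↥(Subgroup.center L)} (hf : f ∈ KP A P) (u : P)
    (hu : (u : L) ∈ Subgroup.center L) : f u = 0 := by
  obtain ⟨c, -, hf⟩ := hf
  apply Additive.toMul.injective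
  apply Subtype.ext
  rw [hf, kc_eq_one.2 (Subgroup.mem_center_iff.1 hu c)]
  rfl

instance instKP (A P : Subgroup L) : AddCommGroup ↥(KP A P) :=
  { (inferInstance : AddGroup ↥(KP A P)) with
    add_comm := fun a b => Subtype.ext (funext fun u => cadd_comm (a.1 u) (b.1 u)) }

/-- the system `K` -/
def KS (A : Subgroup L) : Coef.{u, u} L where
  M P := ↥(KP A P)
  acg _ := instKP A _
  τ g P Q h :=
    { toFun := fun f => ⟨fun u => f.1 ⟨g * u * g⁻¹, h u u.2⟩, by
        obtain ⟨c, hc, hf⟩ := f.2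
        have h1 : ∀ u : P, kc (g⁻¹ * c * g) u = kc c (g * u * g⁻¹) := fun u => by
          have h2 : kc c (g * u * g⁻¹) ∈ Subgroup.center L := by
            have := hf ⟨g * u * g⁻¹, h u u.2⟩
            rw [← this]
            exact Subtype.property _
          rw [kc_conj, Subgroup.mem_center_iff.1 h2 g⁻¹, mul_assoc, inv_mul_cancel, mul_one]
        refine ⟨g⁻¹ * c * g, fun u hu => ?_, fun u => ?_⟩
        · rw [h1 ⟨u, hu⟩]
          exact hc _ (h u hu)
        · rw [h1 u]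
          exact hf _⟩
      map_zero' := rfl
      map_add' := fun _ _ => rfl }
  τ_comp g h P Q R h1 h2 h3 m := by
    apply Subtype.ext
    funext u
    show m.1 ⟨h * (g * u * g⁻¹) * h⁻¹, _⟩ = m.1 ⟨h * g * u * (h * g)⁻¹, _⟩
    congr 2
    group
  τ_inner P u hu h m := by
    apply Subtype.ext
    funext w
    show m.1 ⟨u * w * u⁻¹, _⟩ = m.1 w
    have e : (⟨u * w * u⁻¹, h w w.2⟩ : P) = ⟨u, hu⟩ * w * ⟨u, hu⟩⁻¹ := rfl
    rw [e, KP_mul m.2, KP_mul m.2]
    have h2 : m.1 (⟨u, hu⟩ * ⟨u, hu⟩⁻¹) = 0 := by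
      rw [mul_inv_cancel]
      exact KP_central m.2 1 (Subgroup.one_mem _)
    rw [KP_mul m.2] at h2
    have h3 : m.1 ⟨u, hu⟩ + m.1 w + m.1 ⟨u, hu⟩⁻¹ = m.1 w + (m.1 ⟨u, hu⟩ + m.1 ⟨u, hu⟩⁻¹) := by
      rw [← add_assoc, cadd_comm (m.1 ⟨u, hu⟩) (m.1 w)]
    rw [h3, h2, add_zero]

end L

end Cfsg.Agent.H119.Lim
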