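import Cfsg.Agent.H119.Lim.Single
import Cfsg.Agent.H119.Lim.Ex
import Cfsg.Agent.H473.Lim.Coef
import Cfsg.Agent.H118.Lim.Local

/-!
# S5242, H2a: `H^n(N'; K) = 0` (helper119)
-/

set_option autoImplicit false

namespace Cfsg.Agent.H119.Lim

open MulAction Cfsg.Agent.H539.Lim

universe u v w

theorem cj_cj_inv {G : Type u} [Group G] (g : G) (P : Subgroup G) : cj g⁻¹ (cj g P) = P := by
  ext u
  rw [cj_mem, cj_mem]
  simp [mul_assoc]

theorem card_cj {G : Type u} [Group G] (g : G) (P : Subgroup G) : Nat.card (cj g P) = Nat.card P :=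
  Nat.card_congr (P.equivMapOfInjective _ (MulAut.conj g).injective).toEquiv.symm

/-- reduction to the single subgroups `P ∈ V` -/
theorem van_of_single {G : Type u} [Group G] (C : Coef.{u, w} G) {p : ℕ} [Fact p.Prime] [Finite G] {Ω : Type v}
    [MulAction G Ω] (hΩ : PSet p G Ω) {V : Set (Subgroup G)} (hV : V.OrdConnected) (hVi : IsInv V) (n : ℕ)
    (h : ∀ P ∈ V, ∀ V' : Set (Subgroup ↥(Nz P)), (∀ Q ∈ V', Q.map (Nz P).subtype = P) →
      (C.restr (Nz P)).Van (FixPt P Ω) V' n) : C.Van Ω V n := by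
  refine H473.Lim.Coef.van_of_filt C hV hVi (fun P => Nat.card P)
    (fun P _ Q _ hPQ => Nat.card_le_card_of_injective _ (Subgroup.inclusion_injective hPQ))
    (fun g P _ => card_cj g P) n fun i => ?_
  have hVi' : IsInv {P | P ∈ V ∧ Nat.card P = i} := fun g P hP => ⟨hVi g P hP.1, by rw [card_cj]; exact hP.2⟩
  refine H118.Lim.Coef.van_of_local C hΩ hVi' (fun P => P)
    (fun P _ => le_refl P) (fun g P _ => rfl) (fun P hP Q hQ hPQ => ?_) n fun P hP => ?_
  · exact Subgroup.eq_of_le_of_card_ge hPQ (by rw [hP.2, hQ.2])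
  · exact h P hP.1 _ fun Q hQ => hQ.2

theorem ordConnected_diff {G : Type u} [Group G] {V U : Set (Subgroup G)} (hV : V.OrdConnected)
    (hU : IsUpperSet U) : (V \ U).OrdConnected :=
  ⟨fun _ h1 _ h2 _ h3 => ⟨hV.out h1.1 h2.1 h3, fun h => h2.2 (hU h3.2 h)⟩⟩

theorem isInv_diff {G : Type u} [Group G] {V U : Set (Subgroup G)} (hV : IsInv V) (hU : IsInv U) :
    IsInv (V \ U) := fun g P hP => ⟨hV g P hP.1, fun h => hP.2 (by
    have := hU g⁻¹ _ h
    rwa [cj_cj_inv] at this)⟩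

variable {L : Type u} [Group L]

theorem kval_nsmul {A P : Subgroup L} (f : (KS A).M P) (n : ℕ) (u : P) : 
    ((((n • f).1 u).toMul : ↥(Subgroup.center L)) : L) = (((f.1 u).toMul : ↥(Subgroup.center L)) : L) ^ n := by
  induction n with
  | zero => rw [zero_smul, pow_zero]; rfl
  | succ n ih => rw [succ_nsmul, pow_succ, ← ih]; rfl

theorem isPTors_K {p : ℕ} [Fact p.Prime] [Finite L] {A : Subgroup L} (hAp : IsPGroup p A) (P : Subgroup L) :
    IsPTors p ((KS A).M P) := by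
  intro f
  obtain ⟨b, hb⟩ := IsPGroup.iff_card.1 hAp
  refine ⟨b, ?_⟩
  apply Subtype.ext
  funext u
  apply Additive.toMul.injective
  apply Subtype.ext
  refine (kval_nsmul f (p ^ b) u).trans ?_
  obtain ⟨c, hc, hf⟩ := f.2
  rw [hf]
  have := pow_card_eq_one' (x := (⟨kc c u, hc u u.2⟩ : A))
  rw [hb] at this
  exact congrArg Subtype.val this

theorem finite_K [Finite L] (A P : Subgroup L) : Finite ((KS A).M P) := by
  have h1 : Finite ↥(Subgroup.center L) := inferInstance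
  have h2 : Finite (Additive ↥(Subgroup.center L)) := Finite.of_equiv _ Additive.ofMul
  have h3 : Finite (↥P → Additive ↥(Subgroup.center L)) := inferInstance
  exact inferInstanceAs (Finite ↥(KP A P))

/-- `{c ∈ N(P) | [c,P] ≤ A}` -/
def WK (A P : Subgroup L) (hA : A ≤ Subgroup.center L) : Subgroup ↥(Nz P) where
  carrier := {c | ∀ u ∈ P, kc (c : L) u ∈ A}
  one_mem' := fun u _ => by
    show kc (1 : L) u ∈ A
    rw [kc_one_left]
    exact A.one_mem
  mul_mem' := by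
    rintro a b ha hb u hu
    show kc ((a : L) * b) u ∈ A
    rw [kc_mul_left (hA (hb u hu))]
    exact A.mul_mem (ha u hu) (hb u hu)
  inv_mem' := by
    rintro a ha u hu
    show kc ((a : L)⁻¹) u ∈ A
    have h3 : kc ((a : L)⁻¹ * a) u = kc (a : L)⁻¹ u * kc (a : L) u := kc_mul_left (hA (ha u hu))
    rw [inv_mul_cancel, kc_one_left] at h3
    rw [eq_inv_of_mul_eq_one_left h3.symm]
    exact A.inv_mem (ha u hu)

theorem mem_WK {A P : Subgroup L} {hA : A ≤ Subgroup.center L} {c : ↥(Nz P)} :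
    c ∈ WK A P hA ↔ ∀ u ∈ P, kc (c : L) u ∈ A := Iff.rfl

instance normal_WK (A P : Subgroup L) (hA : A ≤ Subgroup.center L) : (WK A P hA).Normal := ⟨fun c hc g => by
  intro u hu
  have e : ((g * c * g⁻¹ : ↥(Nz P)) : L) = ((g⁻¹ : ↥(Nz P)) : L)⁻¹ * (c : L) * ((g⁻¹ : ↥(Nz P)) : L) := by simp
  rw [e, kc_conj]
  exact conj_mem_A' hA (hc _ (nz_conj g⁻¹ u hu))⟩

/-- the `p`-element outside of `P` -/
theorem exists_WK {p : ℕ} {A P : Subgroup L} (hA : A ≤ Subgroup.center L) (hAP : A ≤ P) (hP : P ∉ CM p A) :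
    ∃ u ∈ WK A P hA, (∃ k : ℕ, u ^ (p ^ k) = 1) ∧ (u : L) ∉ P := by
  have h0 : ∃ u : L, (∀ w ∈ P, kc u w ∈ A) ∧ (∃ k : ℕ, u ^ (p ^ k) = 1) ∧ u ∉ P := by
    by_contra h
    apply hP
    intro u h1 h2
    by_contra h3
    exact h ⟨u, h1, h2, h3⟩
  obtain ⟨u, h1, ⟨k, hk⟩, h3⟩ := h0
  have h4 : ∀ c : L, (∀ w ∈ P, kc c w ∈ A) → ∀ w ∈ P, c * w * c⁻¹ ∈ P := by
    intro c hc w hw
    have e : c * w * c⁻¹ = kc c w * w := by unfold kc; group
    rw [e]
    exact P.mul_mem (hAP (hc w hw)) hw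
  have h5 : ∀ w ∈ P, kc u⁻¹ w ∈ A := by
    intro w hw
    have h3 : kc (u⁻¹ * u) w = kc u⁻¹ w * kc u w := kc_mul_left (hA (h1 w hw))
    rw [inv_mul_cancel, kc_one_left] at h3
    rw [eq_inv_of_mul_eq_one_left h3.symm]
    exact A.inv_mem (h1 w hw)
  have hu : u ∈ Nz P := by
    rw [Subgroup.mem_normalizer_iff]
    intro w
    refine ⟨h4 u h1 w, fun hw => ?_⟩
    have := h4 u⁻¹ h5 _ hw
    simpa [mul_assoc] using this
  exact ⟨⟨u, hu⟩, h1, ⟨k, Subtype.ext hk⟩, h3⟩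

/-- `W` acts trivially on `K(P)` -/
theorem WK_triv {A P : Subgroup L} (hA : A ≤ Subgroup.center L) (hAP : A ≤ P) (n : ↥(Nz P)) (hn : n ∈ WK A P hA)
    (m : (KS A).M P) : (KS A).τ (n : L) P P (nz_conj n) m = m := by
  apply Subtype.ext
  funext u
  show m.1 ⟨(n : L) * u * (n : L)⁻¹, _⟩ = m.1 u
  have h1 : kc (n : L) u ∈ A := hn u u.2
  have e : (⟨(n : L) * u * (n : L)⁻¹, nz_conj n u u.2⟩ : P) = ⟨kc (n : L) u, hAP h1⟩ * u := by
    apply Subtype.ext
    show (n : L) * u * (n : L)⁻¹ = kc (n : L) u * u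
    unfold kc; group
  rw [e, KP_mul m.2, KP_central m.2 _ (hA h1), zero_add]

/-- `H^n(N'; K) = 0` -/
theorem van_K_noncentric {p : ℕ} [Fact p.Prime] [Finite L] {Ω : Type v} [MulAction L Ω] [Finite Ω]
    (hΩ : PSet p L Ω) {A : Subgroup L} (hA : A ≤ Subgroup.center L) (hAp : IsPGroup p A) (n : ℕ) :
    (KS A).Van Ω (AllP p A \ CM p A) n := by
  refine van_of_single (KS A) hΩ (ordConnected_diff (AllP_ordConnected p A) (CM_isUpperSet p A))
    (isInv_diff (AllP_isInv hA p) (CM_isInv hA p)) n fun P hP V' hV' => ?_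
  have : Finite ((KS A).M P) := finite_K A P
  exact van_single (KS A) hΩ hP.1.2 (isPTors_K hAp P) (WK A P hA) (WK_triv hA hP.1.1)
    (exists_WK hA hP.1.1 hP.2) hV' n

end Cfsg.Agent.H119.Lim
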