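import Cfsg.Agent.H119.Lim.Ex
import Cfsg.Agent.H234.Lim.Comp

/-!
# S5242, H2a: `H^n(U'; ZG)` from Theorem A for `L ⧸ A` (helper119)
-/

set_option autoImplicit false

namespace Cfsg.Agent.H119.Lim

open MulAction Cfsg.Agent.H539.Lim

universe u v w

/-- `Van` depends only on the stabilizers of tuples -/
theorem cvan_congr {G : Type u} [Group G] (C : Coef.{u, w} G) {Ω : Type v} [MulAction G Ω] {V V' : Set (Subgroup G)}
    (h : ∀ (k : ℕ) (x : Fin (k + 1) → Ω), st G x ∈ V ↔ st G x ∈ V') {n : ℕ} (hV : C.Van Ω V n) : C.Van Ω V' n := by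
  have h1 : ∀ {k : ℕ} {c : ∀ x : Fin (k + 1) → Ω, C.M (st G x)}, C.IsCoch V' c → C.IsCoch V c :=
    fun {k c} hc => ⟨hc.equiv, fun x hx => hc.supp x fun h' => hx ((h k x).2 h')⟩
  have h2 : ∀ {k : ℕ} {c : ∀ x : Fin (k + 1) → Ω, C.M (st G x)}, C.IsCoch V c → C.IsCoch V' c :=
    fun {k c} hc => ⟨hc.equiv, fun x hx => hc.supp x fun h' => hx ((h k x).1 h')⟩
  have h3 : ∀ {k : ℕ} {c : ∀ x : Fin (k + 1) → Ω, C.M (st G x)}, C.IsCoc V' c → C.IsCoc V c :=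
    fun {k c} hc x hx => hc x ((h _ x).1 hx)
  cases n with
  | zero => exact fun c hc hz => hV c (h1 hc) (h3 hz)
  | succ n =>
    intro c hc hz
    obtain ⟨b, hb, hb'⟩ := hV c (h1 hc) (h3 hz)
    exact ⟨b, h2 hb, fun x hx => hb' x ((h _ x).2 hx)⟩

variable {L : Type u} [Group L] {Ω : Type v} [MulAction L Ω] {A : Subgroup L} [A.Normal]

/-- the action of `L ⧸ A` -/
@[reducible] def quotAct (hAst : ∀ x : Ω, A ≤ stabilizer L x) : MulAction (L ⧸ A) Ω :=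
  MulAction.compHom Ω (QuotientGroup.lift A (MulAction.toPermHom L Ω) (fun a ha => by
    ext x
    exact mem_stabilizer_iff.1 (hAst x ha)) : L ⧸ A →* Equiv.Perm Ω)

theorem quotAct_mk (hAst : ∀ x : Ω, A ≤ stabilizer L x) (g : L) (x : Ω) :
    letI := quotAct hAst
    g • x = (QuotientGroup.mk' A g) • x := rfl

theorem quotAct_stab (hAst : ∀ x : Ω, A ≤ stabilizer L x) (x : Ω) :
    letI := quotAct hAst
    stabilizer (L ⧸ A) x = (stabilizer L x).map (QuotientGroup.mk' A) := by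
  letI := quotAct hAst
  ext q
  obtain ⟨g, rfl⟩ := QuotientGroup.mk_surjective q
  constructor
  · intro h
    exact ⟨g, h, rfl⟩
  · rintro ⟨w, hw, h⟩
    rw [← h]
    exact hw

theorem quotAct_pset {p : ℕ} (hΩ : PSet p L Ω) (hAp : IsPGroup p A) (hAst : ∀ x : Ω, A ≤ stabilizer L x) :
    letI := quotAct hAst
    PSet p (L ⧸ A) Ω := by
  letI := quotAct hAst
  refine ⟨fun x => ?_, fun P hP => ?_⟩
  · rw [quotAct_stab]
    exact (hΩ.pgroup x).map _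
  · have h1 : IsPGroup p (P.comap (QuotientGroup.mk' A)) := hP.comap_of_ker_isPGroup _ (by
      rw [QuotientGroup.ker_mk']; exact hAp)
    obtain ⟨x, hx⟩ := hΩ.exists_fix _ h1
    refine ⟨x, fun q hq => ?_⟩
    obtain ⟨g, rfl⟩ := QuotientGroup.mk_surjective q
    exact hx hq

theorem isPGroup_st {p : ℕ} (hΩ : PSet p L Ω) {k : ℕ} (x : Fin (k + 1) → Ω) : IsPGroup p (st L x) :=
  (hΩ.pgroup (x 0)).to_le fun g hg => by
    rw [mem_stabilizer_iff] at hg ⊢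
    exact congrFun hg 0

omit [A.Normal] in
theorem le_st_of (hAst : ∀ x : Ω, A ≤ stabilizer L x) {k : ℕ} (x : Fin (k + 1) → Ω) : A ≤ st L x := fun a ha => by
  rw [mem_stabilizer_iff]
  funext i
  exact mem_stabilizer_iff.1 (hAst (x i) ha)

/-- `H^n(U'; ZG)` from `H^n(centric; Z)` for `L ⧸ A` -/
theorem van_ZG {p : ℕ} (hΩ : PSet p L Ω) (hA : A ≤ Subgroup.center L) (hAp : IsPGroup p A)
    (hAst : ∀ x : Ω, A ≤ stabilizer L x) {n : ℕ}
    (h : letI := quotAct hAst; (Coef.Z p (L ⧸ A)).Van Ω {P : Subgroup (L ⧸ A) | Centric p P} n) :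
    (ZG p A).Van Ω (AllP p A ∩ CM p A) n := by
  letI := quotAct hAst
  have hO : ({P : Subgroup L | A ≤ P} ∩ CM p A).OrdConnected := 
    ⟨fun _ h1 _ h2 _ h3 => ⟨h1.1.trans h3.1, CM_isUpperSet p A h3.1 h1.2⟩⟩
  have hI : IsInv ({P : Subgroup L | A ≤ P} ∩ CM p A) := fun g P hP => ⟨le_cj hA g hP.1, CM_isInv hA p g P hP.2⟩
  refine cvan_congr (V := {P : Subgroup L | A ≤ P} ∩ CM p A) _ (fun k x => ?_) ?_
  · exact ⟨fun h1 => ⟨⟨h1.1, isPGroup_st hΩ x⟩, h1.2⟩, fun h1 => ⟨h1.1.1, h1.2⟩⟩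
  · refine H234.Lim.Coef.van_of_surj (ZG p A) (QuotientGroup.mk' A) (QuotientGroup.mk'_surjective A)
      (quotAct_mk hAst) (Coef.Z p (L ⧸ A)) hO hI (fun P hP => ?_) (fun P hP => AddEquiv.refl _) (fun g P Q h h' hP hQ m => rfl) h
    rw [QuotientGroup.ker_mk'] at hP
    exact ⟨fun h1 => (mem_CM_iff hAp hP).1 h1.2, fun h1 => ⟨hP, (mem_CM_iff hAp hP).2 h1⟩⟩

end Cfsg.Agent.H119.Lim
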